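import Mathlib

/-!
# Binary affine groups: linear point stabilisers

`H` is the stabiliser of `0` in a binary primitive affine group on the vector space `V`, written over
its centraliser field `E`. Three consequences of binarity are derived here: the suborbits of `H` on each
of its orbits are self-paired, a single element of `H` performs all translations by a fixed vector, and
every stabiliser invariant functional extends to an invariant symmetric bilinear form.
-/

set_option autoImplicit false
set_option linter.unusedSectionVars false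

namespace CfsgLib.Perm.BinaryAffine

open LinearMap (BilinForm)

variable {E V : Type*} [Field E] [AddCommGroup V] [Module E V]

/-- The hypotheses on the linear stabiliser of a binary primitive affine group. -/
structure IsBinaryLinear (H : Subgroup (V ≃ₗ[E] V)) : Prop where
  /-- irreducibility -/
  irr : ∀ W : Submodule E V, (∀ h ∈ H, ∀ x ∈ W, h x ∈ W) → W = ⊥ ∨ W = ⊤
  /-- the commutant consists of scalars -/
  com : ∀ T : V →ₗ[E] V, (∀ h ∈ H, ∀ x, T (h x) = h (T x)) → ∃ c : E, ∀ x, T x = c • x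
  /-- binarity -/
  bin : ∀ (S : Finset V) (f : V → V), (∀ x ∈ S, ∃ h ∈ H, h x = f x) →
    (∀ x ∈ S, ∀ y ∈ S, ∃ h ∈ H, h (x - y) = f x - f y) → ∃ h ∈ H, ∀ x ∈ S, h x = f x

variable [Finite V] {H : Subgroup (V ≃ₗ[E] V)}

theorem finite_equiv : Finite (V ≃ₗ[E] V) :=
  Finite.of_injective _ (DFunLike.coe_injective (F := V ≃ₗ[E] V))

/-- All suborbits on an orbit are self-paired: two points of an orbit are interchanged by some element. -/
theorem IsBinaryLinear.swap (hB : IsBinaryLinear H) {k : V ≃ₗ[E] V} (hk : k ∈ H) (x : V) :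
    ∃ g ∈ H, g x = k x ∧ g (k x) = x := by
  classical
  set v : V := -(k⁻¹ x) with hv
  set f : V → V := fun y => if y = x then x else -(k x) with hf
  have hfv : f v = -(k x) := by
    by_cases h : v = x
    · simp only [hf, h, if_true]
      have h2 := congrArg k h
      rw [hv, map_neg] at h2
      have h3 : k (k⁻¹ x) = x := k.apply_symm_apply x
      rw [h3] at h2
      rw [← h2, neg_neg]
    · simp only [hf, h, if_false]
  have hfx : f x = x := by simp [hf]
  have hkk : k (k⁻¹ x) = x := k.apply_symm_apply x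
  have hd : k (x - v) = x - f v := by
    rw [hfv, hv, sub_neg_eq_add, sub_neg_eq_add, map_add, hkk, add_comm]
  obtain ⟨g, hg, hgS⟩ := hB.bin {x, v} f (fun y hy => by
      rcases Finset.mem_insert.mp hy with rfl | hy
      · exact ⟨1, H.one_mem, hfx.symm⟩
      · rw [Finset.mem_singleton.mp hy]
        exact ⟨k * k, H.mul_mem hk hk, by rw [hfv, LinearEquiv.mul_apply, hv, map_neg, hkk, map_neg]⟩)
    (fun y hy z hz => by
      simp only [Finset.mem_insert, Finset.mem_singleton] at hy hz
      rcases hy with e | e <;> rcases hz with e' | e' <;> rw [e, e']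
      · exact ⟨1, H.one_mem, by simp⟩
      · exact ⟨k, hk, by rw [hd, hfx]⟩
      · exact ⟨k, hk, by rw [← neg_sub x v, map_neg, hd, hfx, neg_sub]⟩
      · exact ⟨1, H.one_mem, by simp⟩)
  have h1 : g x = x := by rw [hgS x (by simp), hfx]
  have h2 : g v = -(k x) := by rw [hgS v (by simp), hfv]
  rw [hv, map_neg, neg_inj] at h2
  refine ⟨g * k⁻¹, H.mul_mem hg (H.inv_mem hk), ?_, ?_⟩
  · exact h2
  · show g (k⁻¹ (k x)) = x
    rw [show k⁻¹ (k x) = x from k.symm_apply_apply x, h1]

/-- One element of `H` realises every translation by `v` inside an orbit. -/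
theorem IsBinaryLinear.translate (hB : IsBinaryLinear H) (v : V) :
    ∃ g ∈ H, ∀ z, (∃ h ∈ H, h z = z + v) → g z = z + v := by
  classical
  haveI := Fintype.ofFinite V
  obtain ⟨g, hg, hgS⟩ := hB.bin (Finset.univ.filter fun z => ∃ h ∈ H, h z = z + v) (fun z => z + v)
    (fun z hz => (Finset.mem_filter.mp hz).2)
    (fun y _ z _ => ⟨1, H.one_mem, by rw [add_sub_add_right_eq_sub]; rfl⟩)
  exact ⟨g, hg, fun z hz => hgS z (Finset.mem_filter.mpr ⟨Finset.mem_univ _, hz⟩)⟩

/-- An orbit contains no three points in arithmetic progression along a quadratic element. -/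
theorem IsBinaryLinear.two_smul_eq_zero (hB : IsBinaryLinear H) {h : V ≃ₗ[E] V} (hh : h ∈ H) {z v : V}
    (hz : h z = z + v) (hv : h v = v) : v + v = 0 := by
  classical
  set f : V → V := fun y => if y = z then z else z + z + v + v with hf
  by_cases hzz : z + z = z
  · have h0 : z = 0 := by simpa using hzz
    rw [h0, map_zero, zero_add] at hz
    rw [← hz, add_zero]
  have hfz : f z = z := by simp [hf]
  have hf2 : f (z + z) = z + z + v + v := by simp only [hf, hzz, if_false]
  have hd : (h * h) (z + z - z) = z + z + v + v - z := by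
    rw [add_sub_cancel_right, LinearEquiv.mul_apply, hz, map_add, hz, hv]
    abel
  obtain ⟨g, -, hgS⟩ := hB.bin {z, z + z} f (fun y hy => by
      rcases Finset.mem_insert.mp hy with rfl | hy
      · exact ⟨1, H.one_mem, hfz.symm⟩
      · rw [Finset.mem_singleton.mp hy, hf2]
        exact ⟨h, hh, by rw [map_add, hz]; abel⟩)
    (fun y hy y' hy' => by
      simp only [Finset.mem_insert, Finset.mem_singleton] at hy hy'
      rcases hy with e | e <;> rcases hy' with e' | e' <;> rw [e, e']
      · exact ⟨1, H.one_mem, by simp⟩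
      · exact ⟨h * h, H.mul_mem hh hh, by rw [← neg_sub (z + z) z, map_neg, hd, hf2, hfz, neg_sub]⟩
      · exact ⟨h * h, H.mul_mem hh hh, by rw [hd, hf2, hfz]⟩
      · exact ⟨1, H.one_mem, by simp⟩)
  have h1 := hgS (z + z) (by simp)
  rw [map_add, hgS z (by simp), hfz, hf2] at h1
  calc v + v = (z + z + v + v) - (z + z) := by abel
    _ = 0 := by rw [← h1, sub_self]

/-- In dimension at least two every non-zero vector has a non-trivial stabiliser. -/
theorem IsBinaryLinear.exists_stab (hB : IsBinaryLinear H) (hdim : 1 < Module.finrank E V) {u : V}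
    (hu : u ≠ 0) : ∃ h ∈ H, h ≠ 1 ∧ h u = u := by
  by_contra hc
  push Not at hc
  have hinv : ∀ h ∈ H, ∀ x, h (h x) = x := by
    intro h hh x
    obtain ⟨g, hg, hgu, hgh⟩ := hB.swap hh u
    have h1 : h⁻¹ * g = 1 := by
      by_contra hne
      exact hc _ (H.mul_mem (H.inv_mem hh) hg) hne
        (show h⁻¹ (g u) = u by rw [hgu]; exact h.symm_apply_apply u)
    rw [inv_mul_eq_one] at h1
    subst h1
    have h2 : h * h = 1 := by
      by_contra hne
      exact hc _ (H.mul_mem hh hh) hne hgh
    exact LinearEquiv.congr_fun h2 x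
  have hcomm : ∀ g ∈ H, ∀ h ∈ H, ∀ x, g (h x) = h (g x) := by
    intro g hg h hh x
    have := hinv _ (H.mul_mem hg hh) (h (g x))
    simp only [LinearEquiv.mul_apply, hinv h hh, hinv g hg] at this
    exact this
  rcases hB.irr (Submodule.span E {u}) (fun h hh x hx => by
      obtain ⟨c, hcc⟩ := hB.com (h : V →ₗ[E] V) (fun g hg y => hcomm h hh g hg y)
      rw [show h x = c • x from hcc x]
      exact Submodule.smul_mem _ c hx) with hW | hW
  · exact hu (by simpa using hW)
  · have := finrank_span_singleton (K := E) hu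
    rw [hW, finrank_top] at this
    omega

theorem IsBinaryLinear.span_orbit_eq_top (hB : IsBinaryLinear H) {x₀ : V} (hx₀ : x₀ ≠ 0) :
    Submodule.span E {y | ∃ h ∈ H, h x₀ = y} = ⊤ := by
  refine (hB.irr _ fun h hh x hx => ?_).resolve_left ?_
  · induction hx using Submodule.span_induction with
    | mem y hy =>
      obtain ⟨k, hk, rfl⟩ := hy
      exact Submodule.subset_span ⟨h * k, H.mul_mem hh hk, rfl⟩
    | zero => rw [map_zero]; exact Submodule.zero_mem _
    | add y z _ _ hy hz => rw [map_add]; exact Submodule.add_mem _ hy hz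
    | smul c y _ hy => rw [map_smul]; exact Submodule.smul_mem _ c hy
  · intro h
    exact hx₀ ((Submodule.mem_bot E).mp (h ▸ Submodule.subset_span ⟨1, H.one_mem, rfl⟩))

/-- A functional invariant under a vector stabiliser extends to an invariant symmetric form. -/
theorem IsBinaryLinear.exists_form (hB : IsBinaryLinear H) {x₀ : V} (hx₀ : x₀ ≠ 0) (f : V →ₗ[E] E)
    (hf : ∀ h ∈ H, h x₀ = x₀ → ∀ y, f (h y) = f y) :
    ∃ B : BilinForm E V, (∀ x y, B x y = B y x) ∧ (∀ h ∈ H, ∀ x y, B (h x) (h y) = B x y) ∧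
      ∀ y, B x₀ y = f y := by
  classical
  haveI := finite_equiv (E := E) (V := V)
  haveI := Fintype.ofFinite H
  let R : (H → E) →ₗ[E] V := Fintype.linearCombination E fun h : H => (h : V ≃ₗ[E] V) x₀
  let R' : (H → E) →ₗ[E] (V →ₗ[E] E) :=
    Fintype.linearCombination E fun h : H => f ∘ₗ (((h : V ≃ₗ[E] V)⁻¹ : V ≃ₗ[E] V) : V →ₗ[E] V)
  have hinv : ∀ (k : V ≃ₗ[E] V) (y : V), k⁻¹ (k y) = y := fun k y => k.symm_apply_apply y
  have hinv' : ∀ (k : V ≃ₗ[E] V) (y : V), k (k⁻¹ y) = y := fun k y => k.apply_symm_apply y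
  -- the key symmetry
  have hsym : ∀ m ∈ H, f (m x₀) = f (m⁻¹ x₀) := by
    intro m hm
    obtain ⟨g, hg, hg1, hg2⟩ := hB.swap hm x₀
    have hs : (m⁻¹ * g) x₀ = x₀ := by rw [LinearEquiv.mul_apply, hg1, hinv]
    have := hf _ (H.mul_mem (H.inv_mem hm) hg) hs (m x₀)
    rw [LinearEquiv.mul_apply, hg2] at this
    exact this.symm
  have hker : LinearMap.ker R ≤ LinearMap.ker R' := by
    intro c hc
    rw [LinearMap.mem_ker] at hc ⊢
    refine LinearMap.ext_on (hB.span_orbit_eq_top hx₀) ?_
    rintro _ ⟨k, hk, rfl⟩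
    have h1 := congrArg (fun y => f (k⁻¹ y)) hc
    simp only [R, R', Fintype.linearCombination_apply, LinearMap.coe_sum, Finset.sum_apply,
      LinearMap.smul_apply, LinearMap.comp_apply, LinearMap.zero_apply, map_sum, map_smul,
      map_zero, LinearEquiv.coe_coe] at h1 ⊢
    refine (Finset.sum_congr rfl fun h _ => ?_).trans h1
    have h2 := hsym _ (H.mul_mem (H.inv_mem h.2) hk)
    rw [mul_inv_rev, inv_inv, LinearEquiv.mul_apply, LinearEquiv.mul_apply] at h2
    rw [h2]
  have hsurj : LinearMap.range R = ⊤ := by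
    rw [Fintype.range_linearCombination, ← hB.span_orbit_eq_top hx₀]
    congr 1
    ext y
    simp [Set.mem_range]
  obtain ⟨s, hs⟩ := R.exists_rightInverse_of_surjective hsurj
  have hDR : ∀ c, R' (s (R c)) = R' c := by
    intro c
    have : s (R c) - c ∈ LinearMap.ker R := by
      rw [LinearMap.mem_ker, map_sub, show R (s (R c)) = R c from LinearMap.congr_fun hs (R c), sub_self]
    have := hker this
    rwa [LinearMap.mem_ker, map_sub, sub_eq_zero] at this
  let B : BilinForm E V := R' ∘ₗ s
  have hBorb : ∀ h ∈ H, ∀ y, B (h x₀) y = f (h⁻¹ y) := by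
    intro h hh y
    have h1 : R (Pi.single ⟨h, hh⟩ 1) = h x₀ := by simp [R]
    have h2 := hDR (Pi.single ⟨h, hh⟩ 1)
    rw [h1] at h2
    show R' (s (h x₀)) y = _
    rw [h2]
    simp [R', Fintype.linearCombination_apply_single]
  have hext : ∀ φ ψ : V →ₗ[E] (V →ₗ[E] E),
      (∀ g ∈ H, ∀ k ∈ H, φ (g x₀) (k x₀) = ψ (g x₀) (k x₀)) → φ = ψ := by
    intro φ ψ h
    refine LinearMap.ext_on (hB.span_orbit_eq_top hx₀) ?_
    rintro _ ⟨g, hg, rfl⟩
    refine LinearMap.ext_on (hB.span_orbit_eq_top hx₀) ?_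
    rintro _ ⟨k, hk, rfl⟩
    exact h g hg k hk
  refine ⟨B, fun x y => ?_, fun h hh x y => ?_, fun y => ?_⟩
  · refine LinearMap.congr_fun₂ (hext B B.flip fun g hg k hk => ?_) x y
    show B (g x₀) (k x₀) = B (k x₀) (g x₀)
    rw [hBorb g hg, hBorb k hk]
    have h2 := hsym _ (H.mul_mem (H.inv_mem hg) hk)
    rwa [mul_inv_rev, inv_inv, LinearEquiv.mul_apply, LinearEquiv.mul_apply] at h2
  · refine LinearMap.congr_fun₂
      (hext (B.compl₁₂ (h : V →ₗ[E] V) (h : V →ₗ[E] V)) B fun g hg k hk => ?_) x y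
    show B (h (g x₀)) (h (k x₀)) = B (g x₀) (k x₀)
    have e : h (g x₀) = (h * g) x₀ := rfl
    rw [e, hBorb _ (H.mul_mem hh hg), hBorb g hg, mul_inv_rev, LinearEquiv.mul_apply, hinv]
  · have := hBorb 1 H.one_mem y
    rw [inv_one] at this
    exact this

theorem IsBinaryLinear.form_nondeg (hB : IsBinaryLinear H) {B : BilinForm E V}
    (hinvB : ∀ h ∈ H, ∀ x y, B (h x) (h y) = B x y) (hne : B ≠ 0) (x : V) (hx : ∀ y, B x y = 0) :
    x = 0 := by
  rcases hB.irr (LinearMap.ker B) (fun h hh z hz => by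
      rw [LinearMap.mem_ker] at hz ⊢
      ext y
      have := hinvB h hh z (h⁻¹ y)
      rw [show h (h⁻¹ y) = y from h.apply_symm_apply y, hz] at this
      exact this) with hW | hW
  · exact (Submodule.mem_bot E).mp (hW ▸ LinearMap.mem_ker.mpr (LinearMap.ext hx))
  · exact absurd (LinearMap.ker_eq_top.mp hW) hne

/-- Invariant forms are unique up to a scalar. -/
theorem IsBinaryLinear.form_unique (hB : IsBinaryLinear H) [FiniteDimensional E V] {B B' : BilinForm E V}
    (h1 : ∀ h ∈ H, ∀ x y, B (h x) (h y) = B x y) (h2 : ∀ h ∈ H, ∀ x y, B' (h x) (h y) = B' x y)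
    (hne : B ≠ 0) : ∃ c : E, ∀ x y, B' x y = c * B x y := by
  have hinj : Function.Injective B := fun x y h => sub_eq_zero.mp
    (hB.form_nondeg h1 hne _ fun z => by rw [map_sub, h, sub_self]; rfl)
  let e : V ≃ₗ[E] (V →ₗ[E] E) := LinearEquiv.ofBijective B
    ⟨hinj, (LinearMap.injective_iff_surjective_of_finrank_eq_finrank
      (Subspace.dual_finrank_eq (K := E) (V := V)).symm).mp hinj⟩
  obtain ⟨c, hc⟩ := hB.com (e.symm.toLinearMap ∘ₗ B') (fun h hh x => by
    apply hinj
    refine LinearMap.ext fun y => ?_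
    have hy : h (h⁻¹ y) = y := h.apply_symm_apply y
    show e (e.symm (B' (h x))) y = _
    rw [e.apply_symm_apply, ← hy, h2 h hh, LinearMap.comp_apply, h1 h hh]
    exact (LinearMap.congr_fun (e.apply_symm_apply (B' x)) (h⁻¹ y)).symm)
  refine ⟨c, fun x y => ?_⟩
  have : B' x = B (c • x) := by
    rw [← hc x]
    exact (e.apply_symm_apply (B' x)).symm
  rw [this, map_smul]
  rfl

end CfsgLib.Perm.BinaryAffine
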