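import Cfsg.Agent.Lib.Perm.BinaryAffine.Basic

/-!
# Binary affine groups: dimension one, and odd characteristic

In odd characteristic the stabiliser has order prime to the characteristic, so averaging gives for
each non-zero vector an invariant functional; the resulting symmetric form is anisotropic, whence the
dimension is at most two.
-/

set_option autoImplicit false
set_option linter.unusedSectionVars false

namespace CfsgLib.Perm.BinaryAffine

open LinearMap (BilinForm)

variable {E V : Type*} [Field E] [AddCommGroup V] [Module E V] [Finite V] {H : Subgroup (V ≃ₗ[E] V)}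

/-- `H` preserves an anisotropic quadratic form on a plane and fixes no vector regularly. -/
structure IsAnisotropicPlane (H : Subgroup (V ≃ₗ[E] V)) (Q : V → E) (P : BilinForm E V) : Prop where
  /-- the dimension is two -/
  rank : Module.finrank E V = 2
  /-- the polar form -/
  polar : ∀ x y, Q (x + y) = Q x + Q y + P x y
  /-- homogeneity -/
  smul : ∀ (c : E) (x), Q (c • x) = c * c * Q x
  /-- anisotropy -/
  aniso : ∀ x, Q x = 0 → x = 0
  /-- invariance -/
  inv : ∀ h ∈ H, ∀ x, Q (h x) = Q x
  /-- non-trivial stabilisers -/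
  stab : ∀ x, x ≠ 0 → ∃ h ∈ H, h ≠ 1 ∧ h x = x

theorem IsBinaryLinear.rank_one (hB : IsBinaryLinear H) (h1 : Module.finrank E V = 1) :
    ∀ h ∈ H, (∀ x, h x = x) ∨ ∀ x, h x = -x := by
  obtain ⟨v, hv, hsp⟩ := finrank_eq_one_iff'.mp h1
  intro h hh
  obtain ⟨c, hc⟩ := hsp (h v)
  have hx : ∀ x, h x = c • x := fun x => by
    obtain ⟨d, rfl⟩ := hsp x
    rw [map_smul, ← hc, smul_comm]
  obtain ⟨g, -, hg1, hg2⟩ := hB.swap hh v
  rw [← hc] at hg1 hg2
  rw [map_smul, hg1, smul_smul] at hg2
  have hcc : c * c = 1 := smul_left_injective E hv (hg2.trans (one_smul E v).symm)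
  rcases mul_self_eq_one_iff.mp hcc with rfl | rfl
  · exact Or.inl fun x => by rw [hx, one_smul]
  · exact Or.inr fun x => by rw [hx, neg_one_smul]

/-- In odd characteristic `p` no element of `H` has order `p`. -/
theorem IsBinaryLinear.card_coprime (hB : IsBinaryLinear H) (h2 : (2 : E) ≠ 0) {p : ℕ} (hp : p.Prime)
    [CharP E p] [Nontrivial V] [Fintype H] : ¬ p ∣ Fintype.card H := by
  intro hdvd
  haveI : Fact p.Prime := ⟨hp⟩
  haveI : CharP (Module.End E V) p :=
    charP_of_injective_algebraMap (FaithfulSMul.algebraMap_injective E (Module.End E V)) p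
  obtain ⟨h, hord⟩ := exists_prime_orderOf_dvd_card p hdvd
  set D : Module.End E V := ((h : V ≃ₗ[E] V) : V →ₗ[E] V) - 1 with hD
  have hDp : D ^ p = 0 := by
    rw [hD, sub_pow_char_of_commute _ (Commute.one_right _), one_pow, sub_eq_zero]
    have e : ∀ n : ℕ, (((h : V ≃ₗ[E] V) : V →ₗ[E] V)) ^ n = (((h ^ n : H) : V ≃ₗ[E] V) : V →ₗ[E] V) := by
      intro n
      induction n with
      | zero => rfl
      | succ n ih => rw [pow_succ, ih, pow_succ]; rfl
    rw [e, ← hord, pow_orderOf_eq_one]
    rfl
  have hex : ∃ n, D ^ n = 0 := ⟨p, hDp⟩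
  classical
  have hspec := Nat.find_spec hex
  obtain ⟨m, hm⟩ : ∃ m, Nat.find hex = m + 2 := by
    refine ⟨Nat.find hex - 2, ?_⟩
    have h0 : Nat.find hex ≠ 0 := fun e => by
      rw [e, pow_zero] at hspec
      exact one_ne_zero hspec
    have h1 : Nat.find hex ≠ 1 := fun e => by
      rw [e, pow_one, hD, sub_eq_zero] at hspec
      have : h = 1 := Subtype.ext (LinearEquiv.ext fun x => LinearMap.congr_fun hspec x)
      rw [this, orderOf_one] at hord
      exact hp.one_lt.ne hord
    omega
  have hmin : D ^ (m + 1) ≠ 0 := Nat.find_min hex (by omega)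
  rw [hm] at hspec
  obtain ⟨y, hy⟩ : ∃ y, (D ^ (m + 1)) y ≠ 0 := by
    by_contra hc
    push Not at hc
    exact hmin (LinearMap.ext hc)
  have hDapp : ∀ x, (h : V ≃ₗ[E] V) x = x + D x := fun x => by simp [hD]
  have hz : (h : V ≃ₗ[E] V) ((D ^ m) y) = (D ^ m) y + (D ^ (m + 1)) y := by
    rw [hDapp, pow_succ' D m]
    rfl
  have hv : (h : V ≃ₗ[E] V) ((D ^ (m + 1)) y) = (D ^ (m + 1)) y := by
    rw [hDapp, show D ((D ^ (m + 1)) y) = (D ^ (m + 2)) y by rw [pow_succ' D (m + 1)]; rfl, hspec]
    exact add_zero _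
  have h0 := hB.two_smul_eq_zero h.2 hz hv
  rw [← two_smul E, smul_eq_zero] at h0
  exact h0.elim h2 hy

theorem IsBinaryLinear.odd_plane (hB : IsBinaryLinear H) [Finite E] (h2 : (2 : E) ≠ 0)
    [FiniteDimensional E V] (hdim : 1 < Module.finrank E V) :
    ∃ (Q : V → E) (P : BilinForm E V), IsAnisotropicPlane H Q P := by
  classical
  haveI := finite_equiv (E := E) (V := V)
  haveI := Fintype.ofFinite H
  haveI : Nontrivial V := Module.nontrivial_of_finrank_pos (R := E) (by omega)
  obtain ⟨p, hchar⟩ := CharP.exists E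
  have hp : p.Prime := (CharP.char_is_prime_or_zero E p).resolve_right
    (CharP.char_ne_zero_of_finite E p)
  have hcop := hB.card_coprime h2 hp
  -- a form for each vector
  have hform : ∀ u : V, u ≠ 0 → ∃ B : BilinForm E V, (∀ x y, B x y = B y x) ∧
      (∀ h ∈ H, ∀ x y, B (h x) (h y) = B x y) ∧ B u u ≠ 0 := by
    intro u hu
    obtain ⟨φ, hφ⟩ : ∃ φ : V →ₗ[E] E, φ u = 1 := by
      obtain ⟨g, hg⟩ := (LinearMap.toSpanSingleton E V u).exists_leftInverse_of_injective
        (LinearMap.ker_eq_bot.mpr (smul_left_injective E hu))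
      exact ⟨g, by simpa using LinearMap.congr_fun hg 1⟩
    let M : Subgroup H :=
      { carrier := {h | (h : V ≃ₗ[E] V) u = u}
        one_mem' := rfl
        mul_mem' := fun {a b} ha hb => by
          show (a : V ≃ₗ[E] V) ((b : V ≃ₗ[E] V) u) = u
          rw [hb]; exact ha
        inv_mem' := fun {a} ha => by
          show ((a : V ≃ₗ[E] V)).symm u = u
          rw [LinearEquiv.symm_apply_eq]; exact ha.symm }
    let f : V →ₗ[E] E := ∑ m : M, φ ∘ₗ (((m : H) : V ≃ₗ[E] V) : V →ₗ[E] V)
    obtain ⟨B, hs, hi, hBu⟩ := hB.exists_form hu f (fun h hh hhu y => by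
      simp only [f, LinearMap.coe_sum, Finset.sum_apply, LinearMap.comp_apply, LinearEquiv.coe_coe]
      exact Equiv.sum_comp (Equiv.mulRight (⟨⟨h, hh⟩, hhu⟩ : M))
        fun m : M => φ (((m : H) : V ≃ₗ[E] V) y))
    refine ⟨B, hs, hi, ?_⟩
    have hfu : f u = (Fintype.card M : E) := by
      simp only [f, LinearMap.coe_sum, Finset.sum_apply, LinearMap.comp_apply, LinearEquiv.coe_coe]
      rw [Finset.sum_congr rfl (fun (m : M) _ => show φ (((m : H) : V ≃ₗ[E] V) u) = 1 by rw [m.2, hφ]),
        Finset.sum_const, Finset.card_univ, nsmul_one]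
    rw [hBu, hfu, Ne, CharP.cast_eq_zero_iff E p]
    intro hd
    refine hcop (hd.trans ?_)
    rw [← Nat.card_eq_fintype_card, ← Nat.card_eq_fintype_card]
    exact Subgroup.card_subgroup_dvd_card M
  obtain ⟨u₀, hu₀⟩ := exists_ne (0 : V)
  obtain ⟨B, hsym, hinvB, hB0⟩ := hform u₀ hu₀
  have hBne : B ≠ 0 := fun e => hB0 (by rw [e]; rfl)
  have haniso : ∀ x, B x x = 0 → x = 0 := by
    intro x hx
    by_contra hne
    obtain ⟨B', -, hi', hB'⟩ := hform x hne
    obtain ⟨c, hc⟩ := hB.form_unique hinvB hi' hBne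
    exact hB' (by rw [hc, hx, mul_zero])
  have hrank : Module.finrank E V = 2 := by
    by_contra hne
    -- three orthogonal vectors
    let K₁ := LinearMap.ker (B u₀)
    obtain ⟨a, ha, ha0⟩ : ∃ a ∈ K₁, a ≠ 0 := by
      refine K₁.ne_bot_iff.mp fun e => ?_
      have h1 := (B u₀).finrank_range_add_finrank_ker
      rw [show LinearMap.ker (B u₀) = ⊥ from e, finrank_bot] at h1
      have h2 := Submodule.finrank_le (LinearMap.range (B u₀))
      rw [Module.finrank_self] at h2
      omega
    obtain ⟨c, hc, hc0⟩ : ∃ c ∈ LinearMap.ker ((B u₀).prod (B a)), c ≠ 0 := by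
      refine Submodule.ne_bot_iff _ |>.mp fun e => ?_
      have h1 := ((B u₀).prod (B a)).finrank_range_add_finrank_ker
      rw [e, finrank_bot] at h1
      have h2 := Submodule.finrank_le (LinearMap.range ((B u₀).prod (B a)))
      rw [Module.finrank_prod, Module.finrank_self] at h2
      omega
    rw [LinearMap.mem_ker] at ha hc
    replace hc : B u₀ c = 0 ∧ B a c = 0 := Prod.mk_eq_zero.mp hc
    haveI := Fintype.ofFinite E
    have hodd : Fintype.card E % 2 = 1 := FiniteField.odd_card_of_char_ne_two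
      (fun e => h2 (by
        haveI := ringChar.charP E
        have h := CharP.cast_eq_zero E (ringChar E)
        rw [e] at h
        exact_mod_cast h))
    open Polynomial in
    obtain ⟨s, t, hst⟩ := FiniteField.exists_root_sum_quadratic
      (f := C (B u₀ u₀) * X ^ 2 + C (B c c)) (g := C (B a a) * X ^ 2)
      (by rw [degree_add_C (by rw [degree_C_mul_X_pow 2 hB0]; exact two_pos), degree_C_mul_X_pow 2 hB0]; rfl)
      (degree_C_mul_X_pow 2 (fun e => ha0 (haniso a e))) hodd
    simp only [Polynomial.eval_add, Polynomial.eval_mul, Polynomial.eval_C, Polynomial.eval_pow,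
      Polynomial.eval_X] at hst
    have hca : B c a = 0 := by rw [hsym]; exact hc.2
    have hcu : B c u₀ = 0 := by rw [hsym]; exact hc.1
    have hau : B a u₀ = 0 := by rw [hsym]; exact ha
    have hz : s • u₀ + t • a + c = 0 := by
      refine haniso _ ?_
      simp only [map_add, map_smul, LinearMap.add_apply, LinearMap.smul_apply, smul_eq_mul, ha, hau,
        hc.1, hc.2, hca, hcu]
      linear_combination hst
    have := congrArg (B c) hz
    simp only [map_add, map_smul, smul_eq_mul, hcu, hca, map_zero, mul_zero, zero_add] at this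
    exact hc0 (haniso c this)
  refine ⟨fun x => B x x, B + B, hrank, fun x y => ?_, fun c x => ?_, haniso,
    fun h hh x => hinvB h hh x x, fun x hx => hB.exists_stab hdim hx⟩
  · simp only [map_add, LinearMap.add_apply, hsym y x]
    ring
  · simp only [map_smul, LinearMap.smul_apply, smul_eq_mul]
    ring

end CfsgLib.Perm.BinaryAffine
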