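import Cfsg.Agent.Lib.Perm.BinaryAffine.Odd

/-!
# The anisotropic plane as a quadratic field extension

A group of isometries of an anisotropic plane in which every non-zero vector has a non-trivial
stabiliser is the full orthogonal group: the maps `x ↦ c φ(x)` with `c` of norm one and `φ` a field
automorphism.
-/

set_option autoImplicit false
set_option linter.unusedSectionVars false

namespace CfsgLib.Perm.BinaryAffine

open LinearMap (BilinForm)
open scoped QuadraticAlgebra

variable {E V : Type*} [Field E] [AddCommGroup V] [Module E V] [Finite V] {H : Subgroup (V ≃ₗ[E] V)}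

theorem algebraNorm_eq {a b : E} (x : QuadraticAlgebra E a b) :
    Algebra.norm E x = QuadraticAlgebra.norm x := by
  rw [Algebra.norm_apply, ← QuadraticAlgebra.det_toLinearMap_eq_norm x]
  congr 1

theorem IsAnisotropicPlane.orthogonal {Q : V → E} {P : BilinForm E V}
    (hA : IsAnisotropicPlane H Q P) :
    ∃ (a b : E) (_ : Fact (∀ r : E, r ^ 2 ≠ a + b * r)) (ψ : V ≃ₗ[E] QuadraticAlgebra E a b),
      ∀ f : V → V, (∃ h ∈ H, ∀ x, h x = f x) ↔
        ∃ (c : QuadraticAlgebra E a b) (φ : QuadraticAlgebra E a b ≃ₐ[E] QuadraticAlgebra E a b),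
          Algebra.norm E c = 1 ∧ ∀ x, ψ (f x) = c * φ (ψ x) := by
  haveI : FiniteDimensional E V := Module.finite_of_finrank_pos (by rw [hA.rank]; omega)
  let bas : Module.Basis (Fin 2) E V := Module.finBasisOfFinrankEq E V hA.rank
  set e₁ := bas 0 with he₁
  set e₂ := bas 1 with he₂
  have hne₁ : e₁ ≠ 0 := bas.ne_zero 0
  set α := Q e₁ with hαdef
  have hα : α ≠ 0 := fun e => hne₁ (hA.aniso _ e)
  set β := P e₁ e₂ with hβdef
  set γ := Q e₂ with hγdef
  have hQxy : ∀ x y : E, Q (x • e₁ + y • e₂) = x * x * α + y * y * γ + x * y * β := by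
    intro x y
    rw [hA.polar, hA.smul, hA.smul]
    simp only [map_smul, LinearMap.smul_apply, smul_eq_mul, ← hαdef, ← hγdef, ← hβdef]
    ring
  haveI hfact : Fact (∀ r : E, r ^ 2 ≠ -(γ / α) + β / α * r) := ⟨fun r hr => by
    have h0 : Q ((-r) • e₁ + (1 : E) • e₂) = 0 := by
      rw [hQxy]
      field_simp at hr
      linear_combination hr
    have h1 := congrArg (fun v => bas.repr v 1) (hA.aniso _ h0)
    simp [he₁, he₂] at h1⟩
  refine ⟨-(γ / α), β / α, hfact, bas.equiv (QuadraticAlgebra.basis _ _) (Equiv.refl _), fun f => ?_⟩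
  set ψ := bas.equiv (QuadraticAlgebra.basis (-(γ / α)) (β / α)) (Equiv.refl _) with hψ
  have hψxy : ∀ x y : E, ψ (x • e₁ + y • e₂) = ⟨x, y⟩ := by
    intro x y
    rw [map_add, map_smul, map_smul, hψ, he₁, he₂, Module.Basis.equiv_apply, Module.Basis.equiv_apply]
    apply (QuadraticAlgebra.linearEquivTuple (-(γ / α)) (β / α)).injective
    ext i
    fin_cases i <;> simp [QuadraticAlgebra.basis]
  have hψsymm : ∀ z, ψ.symm z = z.re • e₁ + z.im • e₂ := fun z => by
    rw [LinearEquiv.symm_apply_eq, hψxy]
  have hQnorm : ∀ v, Q v = α * QuadraticAlgebra.norm (ψ v) := by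
    intro v
    have : v = (ψ v).re • e₁ + (ψ v).im • e₂ := by rw [← hψsymm, ψ.symm_apply_apply]
    conv_lhs => rw [this, hQxy]
    rw [QuadraticAlgebra.norm_def]
    field_simp
    ring
  let conj : QuadraticAlgebra E (-(γ / α)) (β / α) ≃ₐ[E] QuadraticAlgebra E (-(γ / α)) (β / α) :=
    { toFun := star
      invFun := star
      left_inv := star_star
      right_inv := star_star
      map_mul' := fun x y => by rw [star_mul, mul_comm]
      map_add' := star_add
      commutes' := fun r => by
        rw [QuadraticAlgebra.algebraMap_eq]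
        ext <;> simp }
  have hconj : ∀ x, conj x = star x := fun x => rfl
  -- isometries fixing one
  have hroot : ∀ θ : QuadraticAlgebra E (-(γ / α)) (β / α),
      θ * θ = (-(γ / α)) • 1 + (β / α) • θ → θ = QuadraticAlgebra.omega ∨ θ = star QuadraticAlgebra.omega := by
    intro θ hθ
    have h0 : (θ - QuadraticAlgebra.omega) * (θ - star QuadraticAlgebra.omega) = 0 := by
      have e1 : (QuadraticAlgebra.omega : QuadraticAlgebra E (-(γ / α)) (β / α)) +
          star QuadraticAlgebra.omega = (β / α) • 1 := by ext <;> simp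
      have e2 : (QuadraticAlgebra.omega : QuadraticAlgebra E (-(γ / α)) (β / α)) *
          star QuadraticAlgebra.omega = -((-(γ / α)) • 1) := by
        ext <;> simp <;> ring
      calc (θ - QuadraticAlgebra.omega) * (θ - star QuadraticAlgebra.omega)
          = θ * θ - θ * (QuadraticAlgebra.omega + star QuadraticAlgebra.omega) +
              QuadraticAlgebra.omega * star QuadraticAlgebra.omega := by ring
        _ = 0 := by rw [hθ, e1, e2, mul_smul_comm, mul_one]; abel
    rcases mul_eq_zero.mp h0 with h | h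
    · exact Or.inl (sub_eq_zero.mp h)
    · exact Or.inr (sub_eq_zero.mp h)
  -- the shape of an element of `H`
  have hshape : ∀ h ∈ H, ∃ c, QuadraticAlgebra.norm c = 1 ∧
      ((∀ x, ψ (h x) = c * ψ x) ∨ ∀ x, ψ (h x) = c * star (ψ x)) := by
    intro h hh
    let T : QuadraticAlgebra E (-(γ / α)) (β / α) →ₗ[E] QuadraticAlgebra E (-(γ / α)) (β / α) :=
      ψ.toLinearMap ∘ₗ (h : V →ₗ[E] V) ∘ₗ ψ.symm.toLinearMap
    have hT : ∀ z, T z = ψ (h (ψ.symm z)) := fun z => rfl
    have hN : ∀ z, QuadraticAlgebra.norm (T z) = QuadraticAlgebra.norm z := fun z => by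
      have h1 := hA.inv h hh (ψ.symm z)
      rw [hQnorm, hQnorm, ψ.apply_symm_apply, ← hT] at h1
      exact mul_left_cancel₀ hα h1
    set c := T 1 with hc
    have hcn : QuadraticAlgebra.norm c = 1 := by rw [hc, hN, map_one]
    have hc0 : c ≠ 0 := fun e => by rw [e, QuadraticAlgebra.norm_zero] at hcn; exact zero_ne_one hcn
    set θ := c⁻¹ * T QuadraticAlgebra.omega with hθ
    have hθn : QuadraticAlgebra.norm θ = QuadraticAlgebra.norm (QuadraticAlgebra.omega : QuadraticAlgebra E (-(γ / α)) (β / α)) := by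
      have : QuadraticAlgebra.norm (c * θ) = QuadraticAlgebra.norm (T QuadraticAlgebra.omega) := by rw [hθ, mul_inv_cancel_left₀ hc0]
      rwa [map_mul, hcn, one_mul, hN] at this
    have hθn1 : QuadraticAlgebra.norm (θ + 1) =
        QuadraticAlgebra.norm ((QuadraticAlgebra.omega : QuadraticAlgebra E (-(γ / α)) (β / α)) + 1) := by
      have : QuadraticAlgebra.norm (c * (θ + 1)) = QuadraticAlgebra.norm (T (QuadraticAlgebra.omega + 1)) := by
        rw [mul_add, mul_one, hθ, mul_inv_cancel_left₀ hc0, map_add T, ← hc]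
      rwa [map_mul, hcn, one_mul, hN] at this
    have hθθ : θ * θ = (-(γ / α)) • 1 + (β / α) • θ := by
      simp only [QuadraticAlgebra.norm_def, QuadraticAlgebra.re_add, QuadraticAlgebra.im_add,
        QuadraticAlgebra.re_one, QuadraticAlgebra.im_one, QuadraticAlgebra.omega_re,
        QuadraticAlgebra.omega_im] at hθn hθn1
      have htr : 2 * θ.re + β / α * θ.im = β / α := by linear_combination hθn1 - hθn
      ext
      · simp only [QuadraticAlgebra.re_mul, QuadraticAlgebra.re_add, QuadraticAlgebra.re_smul,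
          QuadraticAlgebra.re_one, smul_eq_mul, mul_one]
        linear_combination θ.re * htr - hθn
      · simp only [QuadraticAlgebra.im_mul, QuadraticAlgebra.im_add, QuadraticAlgebra.im_smul,
          QuadraticAlgebra.im_one, smul_eq_mul, mul_zero, zero_add]
        linear_combination θ.im * htr
    have hTz : ∀ z, T z = c * (z.re • 1 + z.im • θ) := by
      intro z
      conv_lhs => rw [show z = z.re • (1 : QuadraticAlgebra E (-(γ / α)) (β / α)) +
        z.im • QuadraticAlgebra.omega by ext <;> simp]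
      rw [map_add, map_smul, map_smul, ← hc, mul_add, mul_smul_comm, mul_smul_comm, mul_one, hθ,
        mul_inv_cancel_left₀ hc0]
    refine ⟨c, hcn, ?_⟩
    rcases hroot θ hθθ with e | e
    · refine Or.inl fun x => ?_
      rw [← ψ.symm_apply_apply x, ← hT, ψ.apply_symm_apply, hTz, e]
      congr 1
      ext <;> simp
    · refine Or.inr fun x => ?_
      rw [← ψ.symm_apply_apply x, ← hT, ψ.apply_symm_apply, hTz, e]
      congr 1
      ext <;> simp <;> ring
  -- all reflections
  have hrefl : ∀ y : QuadraticAlgebra E (-(γ / α)) (β / α), y ≠ 0 →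
      ∃ h ∈ H, ∀ x, ψ (h x) = y / star y * star (ψ x) := by
    intro y hy
    obtain ⟨h, hh, hh1, hhy⟩ := hA.stab (ψ.symm y) (fun e => hy (by simpa using congrArg ψ e))
    obtain ⟨c, -, hc | hc⟩ := hshape h hh
    · refine absurd (LinearEquiv.ext fun x => ψ.injective ?_) hh1
      have h1 := hc (ψ.symm y)
      rw [hhy, ψ.apply_symm_apply] at h1
      rw [hc, (mul_eq_right₀ hy).mp h1.symm, one_mul]
      rfl
    · refine ⟨h, hh, fun x => ?_⟩
      have hsy : star y ≠ 0 := star_ne_zero.mpr hy
      have h1 := hc (ψ.symm y)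
      rw [hhy, ψ.apply_symm_apply] at h1
      rw [hc, ← (eq_div_iff hsy).mpr h1.symm]
  obtain ⟨σ, hσ, hσx⟩ := hrefl 1 one_ne_zero
  have hσx : ∀ x, ψ (σ x) = star (ψ x) := fun x => by rw [hσx, star_one, div_one, one_mul]
  have hmul : ∀ c, QuadraticAlgebra.norm c = 1 → ∃ h ∈ H, ∀ x, ψ (h x) = c * ψ x := by
    intro c hc
    obtain ⟨y, hy, hyc⟩ : ∃ y, y ≠ 0 ∧ y / star y = c := by
      by_cases h1 : (1 : QuadraticAlgebra E (-(γ / α)) (β / α)) + c = 0
      · have hc1 : c = -1 := eq_neg_of_add_eq_zero_right h1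
        by_cases h2 : (QuadraticAlgebra.omega : QuadraticAlgebra E (-(γ / α)) (β / α)) -
            star QuadraticAlgebra.omega = 0
        · refine ⟨1, one_ne_zero, ?_⟩
          rw [star_one, div_one, hc1]
          have h3 := congrArg QuadraticAlgebra.im h2
          simp only [QuadraticAlgebra.im_sub, QuadraticAlgebra.omega_im, QuadraticAlgebra.im_star,
            QuadraticAlgebra.im_zero] at h3
          ext
          · simp only [QuadraticAlgebra.re_one, QuadraticAlgebra.re_neg]
            linear_combination h3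
          · simp
        · refine ⟨_, h2, ?_⟩
          rw [star_sub, star_star, hc1, ← neg_sub _ (star _), div_neg, neg_inj, div_self]
          exact h2
      · refine ⟨1 + c, h1, ?_⟩
        rw [div_eq_iff (star_ne_zero.mpr h1), star_add, star_one, mul_add, mul_one,
          ← QuadraticAlgebra.algebraMap_norm_eq_mul_star, hc, map_one, add_comm]
    obtain ⟨h, hh, hhx⟩ := hrefl y hy
    refine ⟨h * σ, H.mul_mem hh hσ, fun x => ?_⟩
    rw [LinearEquiv.mul_apply, hhx, hσx, star_star, hyc]
  constructor
  · rintro ⟨h, hh, hf⟩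
    obtain ⟨c, hc, h1 | h1⟩ := hshape h hh
    · exact ⟨c, AlgEquiv.refl, (algebraNorm_eq c).trans hc, fun x => by rw [← hf]; exact h1 x⟩
    · exact ⟨c, conj, (algebraNorm_eq c).trans hc, fun x => by rw [← hf, hconj]; exact h1 x⟩
  · rintro ⟨c, φ, hc, hf⟩
    rw [algebraNorm_eq] at hc
    obtain ⟨h, hh, hhx⟩ := hmul c hc
    have hω := congrArg φ (QuadraticAlgebra.omega_mul_omega_eq_add (a := -(γ / α)) (b := β / α))
    rw [map_mul, map_add, map_smul, map_smul, map_one] at hω
    have hφ : (∀ z, φ z = z) ∨ ∀ z, φ z = star z := by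
      have hz : ∀ z, φ z = z.re • 1 + z.im • φ QuadraticAlgebra.omega := fun z => by
        conv_lhs => rw [show z = z.re • (1 : QuadraticAlgebra E (-(γ / α)) (β / α)) +
          z.im • QuadraticAlgebra.omega by ext <;> simp]
        rw [map_add, map_smul, map_smul, map_one]
      rcases hroot _ hω with e | e
      · exact Or.inl fun z => by rw [hz, e]; ext <;> simp
      · exact Or.inr fun z => by rw [hz, e]; ext <;> simp <;> ring
    rcases hφ with e | e
    · exact ⟨h, hh, fun x => ψ.injective (by rw [hhx, hf, e])⟩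
    · exact ⟨h * σ, H.mul_mem hh hσ, fun x => ψ.injective (by
        rw [LinearEquiv.mul_apply, hhx, hσx, hf, e])⟩

end CfsgLib.Perm.BinaryAffine
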