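import Cfsg.Agent.Lib.Perm.BinaryAffine.Two
import Cfsg.Agent.Lib.Perm.BinaryAffine.Plane

/-!
# Binary affine groups: the classification of the point stabilisers

The centraliser of an irreducible group of automorphisms of a finite abelian group is a finite field,
over which the results on anisotropic planes apply.
-/

set_option autoImplicit false
set_option linter.unusedSectionVars false

namespace CfsgLib.Perm.BinaryAffine

theorem IsBinaryLinear.classify {E V : Type} [Field E] [Finite E] [AddCommGroup V] [Module E V] [Finite V]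
    [Nontrivial V] {H : Subgroup (V ≃ₗ[E] V)} (hB : IsBinaryLinear H) :
    (∀ h ∈ H, (∀ x, h x = x) ∨ ∀ x, h x = -x) ∨
    ∃ (F K : Type) (_ : Field F) (_ : Fintype F) (_ : Field K) (_ : Fintype K) (_ : Algebra F K)
      (ψ : V ≃+ K), Module.finrank F K = 2 ∧ ∀ f : V → V, (∃ h ∈ H, ∀ x, h x = f x) ↔
        ∃ (c : K) (φ : K ≃ₐ[F] K), Algebra.norm F c = 1 ∧ ∀ x, ψ (f x) = c * φ (ψ x) := by
  haveI : FiniteDimensional E V := Module.Finite.of_finite
  have hpos : 0 < Module.finrank E V := Module.finrank_pos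
  rcases Nat.lt_or_ge 1 (Module.finrank E V) with hdim | hdim
  · right
    obtain ⟨Q, P, hA⟩ : ∃ Q P, IsAnisotropicPlane H Q P := by
      by_cases h2 : (2 : E) = 0
      · exact hB.two_plane h2 hdim
      · exact hB.odd_plane h2 hdim
    obtain ⟨a, b, hf, ψ, hψ⟩ := hA.orthogonal
    haveI := hf
    haveI : Finite (QuadraticAlgebra E a b) := Finite.of_equiv _ ψ.toEquiv
    exact ⟨E, QuadraticAlgebra E a b, inferInstance, Fintype.ofFinite E, inferInstance,
      Fintype.ofFinite _, inferInstance, ψ.toAddEquiv, QuadraticAlgebra.finrank_eq_two a b, hψ⟩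
  · exact Or.inl (hB.rank_one (by omega))

/-- The classification, for a monoid homomorphism into the endomorphisms of a finite abelian group. -/
theorem classify_end {V : Type} [AddCommGroup V] [Finite V] [Nontrivial V] {M : Type*} [Group M]
    (ρ : M →* AddMonoid.End V)
    (hirr : ∀ W : AddSubgroup V, (∀ (m : M), ∀ x ∈ W, ρ m x ∈ W) → W = ⊥ ∨ W = ⊤)
    (hbin : ∀ (S : Finset V) (f : V → V), (∀ x ∈ S, ∃ m : M, ρ m x = f x) →
      (∀ x ∈ S, ∀ y ∈ S, ∃ m : M, ρ m (x - y) = f x - f y) → ∃ m : M, ∀ x ∈ S, ρ m x = f x) :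
    ((Nat.card V).Prime ∧ ∀ m, (∀ x, ρ m x = x) ∨ ∀ x, ρ m x = -x) ∨
    ∃ (F K : Type) (_ : Field F) (_ : Fintype F) (_ : Field K) (_ : Fintype K) (_ : Algebra F K)
      (ψ : V ≃+ K), Module.finrank F K = 2 ∧ ∀ f : V → V, (∃ m : M, ∀ x, ρ m x = f x) ↔
        ∃ (c : K) (φ : K ≃ₐ[F] K), Algebra.norm F c = 1 ∧ ∀ x, ψ (f x) = c * φ (ψ x) := by
  classical
  let C : Subring (AddMonoid.End V) := Subring.centralizer (Set.range ρ)
  have hCmem : ∀ {T : AddMonoid.End V}, T ∈ C ↔ ∀ (m : M) (x : V), T (ρ m x) = ρ m (T x) := by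
    intro T
    rw [Subring.mem_centralizer_iff]
    constructor
    · exact fun h m x => (DFunLike.congr_fun (h _ ⟨m, rfl⟩) x).symm
    · rintro h _ ⟨m, rfl⟩
      exact DFunLike.ext _ _ fun x => (h m x).symm
  haveI : Finite (AddMonoid.End V) :=
    Finite.of_injective _ (DFunLike.coe_injective (F := V →+ V))
  have hinjT : ∀ T : C, T ≠ 0 → Function.Injective (T : AddMonoid.End V) := by
    intro T hT
    rcases hirr (AddMonoidHom.ker ((T : AddMonoid.End V) : V →+ V)) (fun m x hx => by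
        show (T : AddMonoid.End V) (ρ m x) = 0
        rw [hCmem.mp T.2 m x, show (T : AddMonoid.End V) x = 0 from hx, map_zero]) with e | e
    · exact (AddMonoidHom.ker_eq_bot_iff _).mp e
    · refine absurd (Subtype.ext (DFunLike.ext _ _ fun x => ?_)) hT
      exact (show x ∈ AddMonoidHom.ker ((T : AddMonoid.End V) : V →+ V) by rw [e]; trivial)
  haveI : Nontrivial C := ⟨⟨0, 1, fun e => by
    obtain ⟨x, hx⟩ := exists_ne (0 : V)
    exact hx (DFunLike.congr_fun (congrArg Subtype.val e) x).symm⟩⟩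
  haveI : NoZeroDivisors C := ⟨fun {S T} h => by
    by_contra hc
    rw [not_or] at hc
    obtain ⟨x, hx⟩ := exists_ne (0 : V)
    have h1 : (S : AddMonoid.End V) ((T : AddMonoid.End V) x) = 0 :=
      DFunLike.congr_fun (congrArg Subtype.val h) x
    exact hx (hinjT T hc.2 ((hinjT S hc.1 (h1.trans (map_zero _).symm)).trans (map_zero _).symm))⟩
  haveI : IsDomain C := NoZeroDivisors.to_isDomain C
  letI : Field C := (Finite.isDomain_to_isField C).toField
  let L : M → (V ≃ₗ[C] V) := fun m =>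
    { toFun := ρ m
      invFun := ρ m⁻¹
      map_add' := map_add _
      map_smul' := fun T x => (hCmem.mp T.2 m x).symm
      left_inv := fun x => by
        show (ρ m⁻¹ * ρ m) x = x
        rw [← map_mul, inv_mul_cancel, map_one]; rfl
      right_inv := fun x => by
        show (ρ m * ρ m⁻¹) x = x
        rw [← map_mul, mul_inv_cancel, map_one]; rfl }
  let Lh : M →* (V ≃ₗ[C] V) :=
    { toFun := L
      map_one' := LinearEquiv.ext fun x => by
        show ρ 1 x = x
        rw [map_one]; rfl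
      map_mul' := fun m k => LinearEquiv.ext fun x => by
        show ρ (m * k) x = ρ m (ρ k x)
        rw [map_mul]; rfl }
  have hL : ∀ m x, Lh m x = ρ m x := fun m x => rfl
  have hB : IsBinaryLinear Lh.range :=
    { irr := fun W hW => by
        rcases hirr W.toAddSubgroup (fun m x hx => hW (Lh m) ⟨m, rfl⟩ x hx) with e | e
        · exact Or.inl (Submodule.toAddSubgroup_injective e)
        · exact Or.inr (Submodule.toAddSubgroup_injective e)
      com := fun T hT => ⟨⟨T.toAddMonoidHom, hCmem.mpr fun m x => hT (Lh m) ⟨m, rfl⟩ x⟩, fun x => rfl⟩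
      bin := fun S f h1 h2 => by
        obtain ⟨m, hm⟩ := hbin S f
          (fun x hx => by obtain ⟨_, ⟨m, rfl⟩, e⟩ := h1 x hx; exact ⟨m, e⟩)
          (fun x hx y hy => by obtain ⟨_, ⟨m, rfl⟩, e⟩ := h2 x hx y hy; exact ⟨m, e⟩)
        exact ⟨Lh m, ⟨m, rfl⟩, hm⟩ }
  rcases hB.classify with h | ⟨F, K, iF, iF', iK, iK', iA, ψ, hr, hψ⟩
  · left
    refine ⟨?_, fun m => h (Lh m) ⟨m, rfl⟩⟩
    haveI : IsSimpleAddGroup V := ⟨fun W _ => hirr W fun m x hx => by
      rcases h (Lh m) ⟨m, rfl⟩ with e | e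
      · rw [show ρ m x = x from e x]; exact hx
      · rw [show ρ m x = -x from e x]; exact W.neg_mem hx⟩
    exact IsSimpleAddGroup.prime_card
  · right
    refine ⟨F, K, iF, iF', iK, iK', iA, ψ, hr, fun f => ⟨fun ⟨m, hm⟩ => ?_, fun hf => ?_⟩⟩
    · exact (hψ f).mp ⟨Lh m, ⟨m, rfl⟩, hm⟩
    · obtain ⟨_, ⟨m, rfl⟩, hm⟩ := (hψ f).mpr hf
      exact ⟨m, hm⟩

end CfsgLib.Perm.BinaryAffine
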