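import Cfsg.Agent.Lib.Perm.BinaryAffine.Odd

/-!
# Binary affine groups in characteristic two

An element with maximal fixed space is the unique element performing its translations, so it is
centralised by the stabiliser of each of its displacement vectors and is a transvection. No two
conjugate transvection centres are orthogonal, and this forces a plane with an anisotropic quadratic
form.
-/

set_option autoImplicit false
set_option linter.unusedSectionVars false

namespace CfsgLib.Perm.BinaryAffine

open LinearMap (BilinForm)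

variable {E V : Type*} [Field E] [AddCommGroup V] [Module E V] [Finite V] {H : Subgroup (V ≃ₗ[E] V)}

/-- No two points of an orbit which are fixed by `h` differ by a displacement vector of `h`. -/
theorem IsBinaryLinear.no_fused_displacement (hB : IsBinaryLinear H) {h : V ≃ₗ[E] V} (hh : h ∈ H)
    {z v x : V} (hz : h z = z + v) (hx : h x = x) (hk : ∃ k ∈ H, k x = x + v) : v = 0 := by
  obtain ⟨g, -, hg⟩ := hB.translate v
  have h1 := hg (z + x) ⟨h, hh, by rw [map_add, hz, hx]; abel⟩
  rw [map_add, hg z ⟨h, hh, hz⟩, hg x hk] at h1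
  calc v = (z + v + (x + v)) - (z + x + v) := by abel
    _ = 0 := by rw [h1, sub_self]

theorem add_self_of_two (h2 : (2 : E) = 0) (x : V) : x + x = 0 := by
  rw [← two_smul E, h2, zero_smul]

theorem neg_eq_self_of_two (h2 : (2 : E) = 0) (x : V) : -x = x :=
  neg_eq_of_add_eq_zero_left (add_self_of_two h2 x)

theorem sub_eq_add_of_two (h2 : (2 : E) = 0) (x y : V) : x - y = x + y := by
  rw [sub_eq_add_neg, neg_eq_self_of_two h2]

/-- In characteristic two there is a transvection. -/
theorem IsBinaryLinear.exists_transvection (hB : IsBinaryLinear H) (h2 : (2 : E) = 0)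
    [FiniteDimensional E V] (hdim : 1 < Module.finrank E V) :
    ∃ (B : BilinForm E V) (w : V), w ≠ 0 ∧ (∀ x, B x x = 0) ∧ (∀ x y, B x y = B y x) ∧
      (∀ h ∈ H, ∀ x y, B (h x) (h y) = B x y) ∧ B ≠ 0 ∧
      ∃ g ∈ H, ∀ y, g y = y + B w y • w := by
  classical
  haveI := finite_equiv (E := E) (V := V)
  haveI : Nontrivial V := Module.nontrivial_of_finrank_pos (R := E) (by omega)
  obtain ⟨u, hu⟩ := exists_ne (0 : V)
  obtain ⟨h₁, hh₁, hh₁ne, -⟩ := hB.exists_stab hdim hu
  haveI : Nonempty {h : H // (h : V ≃ₗ[E] V) ≠ 1} := ⟨⟨⟨h₁, hh₁⟩, hh₁ne⟩⟩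
  obtain ⟨⟨⟨g, hg⟩, hg1⟩, hmax⟩ := Finite.exists_max
    fun h : {h : H // (h : V ≃ₗ[E] V) ≠ 1} => {x : V | ((h : H) : V ≃ₗ[E] V) x = x}.ncard
  have hagree : ∀ k ∈ H, (∀ c, g c = c → k c = c) → ∀ y, g y ≠ y → k y = g y → k = g := by
    intro k hk hfix y hy hky
    by_contra hne
    have hne1 : ((⟨g⁻¹ * k, H.mul_mem (H.inv_mem hg) hk⟩ : H) : V ≃ₗ[E] V) ≠ 1 := fun e =>
      hne (inv_mul_eq_one.mp e).symm
    have hlt : {x | g x = x}.ncard < {x | (g⁻¹ * k) x = x}.ncard := by
      refine Set.ncard_lt_ncard ?_ (Set.toFinite _)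
      refine ⟨fun c (hc : g c = c) => show g⁻¹ (k c) = c by
        rw [hfix c hc]; exact g.symm_apply_eq.mpr hc.symm, fun hsub => hy (hsub ?_)⟩
      show g⁻¹ (k y) = y
      rw [hky]; exact g.symm_apply_apply y
    exact absurd (hmax ⟨_, hne1⟩) (not_le.mpr hlt)
  obtain ⟨z, hz⟩ : ∃ z, g z ≠ z := by
    by_contra hc
    push Not at hc
    exact hg1 (LinearEquiv.ext hc)
  have hG : ∀ z', g z' ≠ z' → ∀ y, (∃ h ∈ H, h y = y + (g z' - z')) → g y = y + (g z' - z') := by
    intro z' hz' y hy
    obtain ⟨k, hk, hkv⟩ := hB.translate (g z' - z')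
    have hkz : k z' = g z' := by rw [hkv z' ⟨g, hg, by abel⟩]; abel
    have hkg : k = g := hagree k hk (fun c hc => by
      have h1 := hkv (z' + c) ⟨g, hg, by rw [map_add, hc]; abel⟩
      rw [map_add, hkz] at h1
      exact add_left_cancel (h1.trans (by abel : z' + c + (g z' - z') = g z' + c))) z' hz' hkz
    rw [← hkg]
    rw [hkg] at hkv
    rw [hkg]
    exact hkv y hy
  have hgg : ∀ x, g (g x) = x := by
    intro x
    by_cases hx : g x = x
    · rw [hx, hx]
    have h1 := hG x hx (g x) ⟨g⁻¹, H.inv_mem hg, by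
      rw [show g⁻¹ (g x) = x from g.symm_apply_apply x]
      calc x = g x + g x + x := by rw [add_self_of_two h2, zero_add]
        _ = g x + (g x - x) := by rw [sub_eq_add_of_two h2]; abel⟩
    rw [h1, sub_eq_add_of_two h2]
    calc g x + (g x + x) = g x + g x + x := by abel
      _ = x := by rw [add_self_of_two h2, zero_add]
  have hfixW : ∀ y, g (g y - y) = g y - y := fun y => by
    rw [map_sub, hgg, ← neg_sub, neg_eq_self_of_two h2]
  set w : V := g z - z with hwdef
  have hw0 : w ≠ 0 := sub_ne_zero.mpr hz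
  -- the stabiliser of `w` centralises `g`
  have hcomm : ∀ h ∈ H, h w = w → ∀ x, g (h x) = h (g x) := by
    intro h hh hw
    have hmove : ∀ c, g c = c → g (h (z + c)) = h (z + c) + w := fun c hc =>
      hG z hz _ ⟨h * g * h⁻¹, H.mul_mem (H.mul_mem hh hg) (H.inv_mem hh), by
        show h (g (h⁻¹ (h (z + c)))) = _
        rw [show h⁻¹ (h (z + c)) = z + c from h.symm_apply_apply _, map_add, hc,
          show g z + c = (z + c) + w by rw [hwdef]; abel, map_add, hw]⟩
    have hz0 : g (h z) = h z + w := by simpa using hmove 0 (map_zero g)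
    have hk : h⁻¹ * g * h = g := by
      refine hagree _ (H.mul_mem (H.mul_mem (H.inv_mem hh) hg) hh) (fun c hc => ?_) z hz ?_
      · have h1 := hmove c hc
        rw [map_add, map_add, hz0] at h1
        have h3 : g (h c) = h c := add_left_cancel (h1.trans (by abel : h z + h c + w = h z + w + h c))
        show h⁻¹ (g (h c)) = c
        rw [h3]
        exact h.symm_apply_apply c
      · show h⁻¹ (g (h z)) = g z
        rw [hz0, ← hw, ← map_add, show z + w = g z by rw [hwdef]; abel]
        exact h.symm_apply_apply _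
    intro x
    have h1 := congrArg h (LinearEquiv.congr_fun hk x)
    simp only [LinearEquiv.mul_apply] at h1
    rwa [show h (h⁻¹ (g (h x))) = g (h x) from h.apply_symm_apply _] at h1
  have htriv : ∀ h ∈ H, h w = w → ∀ y, h (g y - y) = g y - y := by
    intro h hh hw y
    refine sub_eq_zero.mp (hB.no_fused_displacement hg (z := h y - y) ?_ (hfixW y) ⟨h, hh, ?_⟩)
    · rw [map_sub g, hcomm h hh hw, map_sub h]; abel
    · abel
  have hinv : ∀ (φ : V →ₗ[E] E) (h : V ≃ₗ[E] V), h ∈ H → h w = w →
      ∀ y, (φ ∘ₗ ((g : V →ₗ[E] V) - LinearMap.id)) (h y) =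
        (φ ∘ₗ ((g : V →ₗ[E] V) - LinearMap.id)) y := by
    intro φ h hh hw y
    show φ (g (h y) - h y) = φ (g y - y)
    rw [hcomm h hh hw, ← map_sub, htriv h hh hw]
  obtain ⟨φ, hφ⟩ : ∃ φ : V →ₗ[E] E, φ w = 1 := by
    obtain ⟨l, hl⟩ := (LinearMap.toSpanSingleton E V w).exists_leftInverse_of_injective
      (LinearMap.ker_eq_bot.mpr (smul_left_injective E hw0))
    exact ⟨l, by simpa using LinearMap.congr_fun hl 1⟩
  obtain ⟨B, hsym, hinvB, hBw⟩ := hB.exists_form hw0 _ (hinv φ)
  have hBwz : B w z = 1 := by rw [hBw]; exact hφ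
  have hBne : B ≠ 0 := fun e => one_ne_zero (α := E) (by rw [← hBwz, e]; rfl)
  have hgy : ∀ y, g y = y + B w y • w := by
    intro y
    rw [← sub_eq_zero]
    refine (Module.forall_dual_apply_eq_zero_iff E _).mp fun ψ => ?_
    obtain ⟨B', -, hi', hB'w⟩ := hB.exists_form hw0 _ (hinv ψ)
    obtain ⟨c, hc⟩ := hB.form_unique hinvB hi' hBne
    have hψw : ψ w = c := by
      have : B' w z = ψ w := hB'w z
      rw [← this, hc, hBwz, mul_one]
    have hψy : ψ (g y - y) = c * B w y := by
      rw [← hc]; exact (hB'w y).symm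
    rw [← sub_sub, map_sub, hψy, map_smul, hψw, smul_eq_mul, mul_comm, sub_self]
  let K : Submodule E V :=
    { carrier := {x | B x x = 0}
      zero_mem' := by show B 0 0 = 0; simp
      add_mem' := fun {x y} hx hy => by
        show B (x + y) (x + y) = 0
        simp only [map_add, LinearMap.add_apply, show B x x = 0 from hx, show B y y = 0 from hy, hsym y x]
        linear_combination B x y * h2
      smul_mem' := fun c x hx => by
        show B (c • x) (c • x) = 0
        simp [show B x x = 0 from hx] }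
  have hww : B w w = 0 := by
    rw [hBw]
    show φ (g w - w) = 0
    rw [hwdef, hfixW, sub_self, map_zero]
  have halt : ∀ x, B x x = 0 := by
    rcases hB.irr K (fun h hh x hx => show B (h x) (h x) = 0 by rw [hinvB h hh]; exact hx) with e | e
    · exact absurd ((Submodule.mem_bot E).mp (e ▸ (show w ∈ K from hww))) hw0
    · exact fun x => (e ▸ Submodule.mem_top : x ∈ K)
  exact ⟨B, w, hw0, halt, hsym, hinvB, hBne, g, hg, hgy⟩

theorem IsBinaryLinear.two_plane (hB : IsBinaryLinear H) [Finite E] (h2 : (2 : E) = 0)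
    [FiniteDimensional E V] (hdim : 1 < Module.finrank E V) :
    ∃ (Q : V → E) (P : BilinForm E V), IsAnisotropicPlane H Q P := by
  classical
  obtain ⟨B, w, hw0, halt, hsym, hinvB, hBne, g, hg, hgy⟩ := hB.exists_transvection h2 hdim
  have hnd := hB.form_nondeg hinvB hBne
  have hτ : ∀ h ∈ H, ∀ y, (h * g * h⁻¹) y = y + B (h w) y • h w := by
    intro h hh y
    show h (g (h⁻¹ y)) = _
    have hy : h (h⁻¹ y) = y := h.apply_symm_apply y
    rw [hgy, map_add, map_smul, hy, ← hinvB h hh w (h⁻¹ y), hy]
  -- two linearly independent vectors have a separating vector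
  have hsep : ∀ x y : V, y ≠ 0 → (¬ ∃ c : E, x = c • y) → ∃ z, B x z = 1 ∧ B y z = 0 := by
    intro x y hy hne
    obtain ⟨y₀, hy₀⟩ : ∃ y₀, B y y₀ ≠ 0 := by
      by_contra hc
      push Not at hc
      exact hy (hnd y hc)
    obtain ⟨z, hz, hz'⟩ : ∃ z, B y z = 0 ∧ B x z ≠ 0 := by
      by_contra hc
      push Not at hc
      refine hne ⟨B x y₀ / B y y₀, sub_eq_zero.mp (hnd _ fun z => ?_)⟩
      have h1 := hc (z - (B y z / B y y₀) • y₀) (by
        rw [map_sub, map_smul, smul_eq_mul, div_mul_cancel₀ _ hy₀, sub_self])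
      rw [map_sub, map_smul, smul_eq_mul, sub_eq_zero] at h1
      rw [map_sub, map_smul, LinearMap.sub_apply, LinearMap.smul_apply, smul_eq_mul, h1]
      field_simp
      ring
    exact ⟨(B x z)⁻¹ • z, by rw [map_smul, smul_eq_mul, inv_mul_cancel₀ hz'],
      by rw [map_smul, hz, smul_zero]⟩
  -- conjugate centres are never orthogonal
  have hpair : ∀ h ∈ H, B w (h w) = 0 → h w = w := by
    intro h hh h0
    by_cases hc : ∃ c : E, h w = c • w
    · obtain ⟨c, hc⟩ := hc
      obtain ⟨g', -, hg1, hg2⟩ := hB.swap hh w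
      rw [hc] at hg1 hg2 ⊢
      rw [map_smul, hg1, smul_smul] at hg2
      have hcc : c * c = 1 := smul_left_injective E hw0 (hg2.trans (one_smul E w).symm)
      have : (c - 1) * (c - 1) = 0 := by linear_combination hcc + (1 - c) * h2
      rw [mul_self_eq_zero, sub_eq_zero] at this
      rw [this, one_smul]
    have hb0 : h w ≠ 0 := fun e => hw0 (by simpa using e)
    have hc' : ¬ ∃ c : E, w = c • h w := by
      rintro ⟨c, e⟩
      rcases eq_or_ne c 0 with rfl | hc0
      · exact hw0 (by rw [e, zero_smul])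
      · exact hc ⟨c⁻¹, ((inv_smul_eq_iff₀ hc0).mpr e).symm⟩
    obtain ⟨y₁, h11, h12⟩ := hsep w (h w) hb0 hc'
    obtain ⟨y₂, h21, h22⟩ := hsep (h w) w hw0 hc
    set b := h w with hb
    have hwb : b + w = 0 := by
      refine hB.no_fused_displacement (h := g * (h * g * h⁻¹))
        (H.mul_mem hg (H.mul_mem (H.mul_mem hh hg) (H.inv_mem hh))) (z := y₁ + y₂) (x := w) ?_ ?_
        ⟨h, hh, ?_⟩
      · rw [LinearEquiv.mul_apply, hτ h hh, ← hb, map_add (B b), h12, h21, zero_add, one_smul, hgy,
          map_add (B w), map_add (B w), h11, h22, h0, add_zero, add_zero, one_smul]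
        abel
      · rw [LinearEquiv.mul_apply, hτ h hh, ← hb, hsym b w, h0, zero_smul, add_zero, hgy, halt,
          zero_smul, add_zero]
      · rw [← hb]
        calc b = b + (w + w) := by rw [add_self_of_two h2, add_zero]
          _ = w + (b + w) := by abel
    calc b = b + (w + w) := by rw [add_self_of_two h2, add_zero]
      _ = (b + w) + w := by abel
      _ = w := by rw [hwb, zero_add]
  -- the plane
  obtain ⟨h₀, hh₀, hb⟩ : ∃ h ∈ H, h w ≠ w := by
    by_contra hc
    push Not at hc
    have hle : (⊤ : Submodule E V) ≤ Submodule.span E {w} := by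
      rw [← hB.span_orbit_eq_top hw0]
      refine Submodule.span_mono ?_
      rintro _ ⟨h, hh, rfl⟩
      exact Set.mem_singleton_iff.mpr (hc h hh)
    have h1 := Submodule.finrank_mono hle
    rw [finrank_top, finrank_span_singleton hw0] at h1
    omega
  set b := h₀ w with hbdef
  set β := B w b with hβdef
  have hβ : β ≠ 0 := fun e => hb (hpair h₀ hh₀ e)
  have hbb : B b b = 0 := halt b
  have hbw : B b w = β := hsym b w
  set L : E → E → V := fun s t => s • w + t • b with hL
  have hBL : ∀ s t x, B (L s t) x = s * B w x + t * B b x := by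
    intro s t x; simp [hL]
  have hBwL : ∀ s t, B w (L s t) = t * β := by intro s t; simp [hL, halt w, hβdef]
  have hBbL : ∀ s t, B b (L s t) = s * β := by intro s t; simp [hL, hbb, hbw]
  -- preimages in the plane
  have hpre : ∀ s t, ∃ k ∈ H, k (L (t / β) (s / β + t)) = L (t / β) (s / β + t) + L s t ∧
      ∀ d, B w d = 0 → B b d = 0 → k d = d := by
    intro s t
    refine ⟨g * (h₀ * g * h₀⁻¹), H.mul_mem hg (H.mul_mem (H.mul_mem hh₀ hg) (H.inv_mem hh₀)), ?_,
      fun d hd1 hd2 => ?_⟩
    · rw [LinearEquiv.mul_apply, hτ h₀ hh₀, ← hbdef, hBbL, div_mul_cancel₀ _ hβ, hgy, map_add (B w),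
        hBwL, map_smul (B w), smul_eq_mul, ← hβdef,
        show (s / β + t) * β + t * β = s by field_simp; linear_combination t * β * h2]
      simp only [hL]
      abel
    · rw [LinearEquiv.mul_apply, hτ h₀ hh₀, ← hbdef, hd2, zero_smul, add_zero, hgy, hd1, zero_smul,
        add_zero]
  -- the quadratic form on the plane is anisotropic and every vector is a transvection centre
  set q : E → E → E := fun s t => s * s + β * s * t + t * t with hq
  have hfix : ∀ {k : V ≃ₗ[E] V} {y v : V}, k ∈ H → k y = y + v →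
      ∃ k' ∈ H, k' v = v ∧ ∀ z, (∃ h ∈ H, h z = z + v) → k' z = z + v := by
    intro k y v hk hky
    obtain ⟨k', hk', hk'v⟩ := hB.translate v
    refine ⟨k', hk', ?_, hk'v⟩
    have h1 := hk'v (y + v) ⟨k⁻¹, H.inv_mem hk, by
      rw [show k⁻¹ (y + v) = y by rw [← hky]; exact k.symm_apply_apply y, add_assoc, add_self_of_two h2,
        add_zero]⟩
    rw [map_add, hk'v y ⟨k, hk, hky⟩] at h1
    exact add_left_cancel h1
  have haniso : ∀ s t, q s t = 0 → s = 0 ∧ t = 0 := by
    intro s t h0
    by_contra hne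
    obtain ⟨k, hk, hky, -⟩ := hpre s t
    obtain ⟨k', hk', hk'v, hk'z⟩ := hfix hk hky
    have hy := hk'z _ ⟨k, hk, hky⟩
    obtain ⟨c, hc⟩ : ∃ c : E, L (t / β) (s / β + t) = c • L s t := by
      have hdet : (t / β) * t + (s / β + t) * s = 0 := by
        have : ((t / β) * t + (s / β + t) * s) * β = 0 := by
          field_simp
          linear_combination h0
        exact (mul_eq_zero.mp this).resolve_right hβ
      rcases eq_or_ne s 0 with hs | hs
      · have ht : t ≠ 0 := fun ht => hne ⟨hs, ht⟩
        exfalso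
        rw [hs, mul_zero, add_zero, mul_eq_zero, div_eq_zero_iff] at hdet
        rcases hdet with (h | h) | h
        · exact ht h
        · exact hβ h
        · exact ht h
      · refine ⟨(t / β) / s, ?_⟩
        simp only [hL, smul_add, smul_smul]
        rw [div_mul_cancel₀ _ hs]
        congr 2
        field_simp
        field_simp at hdet
        linear_combination hdet - (t * t) * h2
    rw [hc, map_smul, hk'v] at hy
    have hv0 : L s t = 0 := by simpa using hy
    have h3 := hBwL s t
    have h4 := hBbL s t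
    rw [hv0, map_zero] at h3 h4
    exact hne ⟨(mul_eq_zero.mp h4.symm).resolve_right hβ, (mul_eq_zero.mp h3.symm).resolve_right hβ⟩
  have htrans : ∀ s t, q s t ≠ 0 →
      ∃ k ∈ H, ∀ x, k x = x + (B (L s t) x / q s t) • L s t := by
    intro s t h0
    obtain ⟨k, hk, hky, hkd⟩ := hpre s t
    obtain ⟨k', hk', hk'v, hk'z⟩ := hfix hk hky
    refine ⟨k', hk', fun x => ?_⟩
    set y := L (t / β) (s / β + t) with hydef
    have hy := hk'z _ ⟨k, hk, hky⟩
    have hyv : B y (L s t) = q s t := by
      rw [hydef, hBL, hBwL, hBbL]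
      simp only [hq]
      field_simp
      ring
    set c := B (L s t) x / q s t with hc
    set a := B y x / q s t with ha
    set d := x - a • L s t - c • y with hd
    have e1 : B (L s t) d = 0 := by
      rw [hd, map_sub, map_sub, map_smul, map_smul, halt, hsym (L s t) y, hyv, smul_eq_mul, smul_eq_mul,
        mul_zero, sub_zero, hc, div_mul_cancel₀ _ h0, sub_self]
    have e2 : B y d = 0 := by
      rw [hd, map_sub, map_sub, map_smul, map_smul, halt, hyv, smul_eq_mul, smul_eq_mul, mul_zero,
        sub_zero, ha, div_mul_cancel₀ _ h0, sub_self]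
    rw [hBL] at e1
    rw [hydef, hBL] at e2
    have hdw : B w d = 0 := by
      have : q s t * B w d = 0 := by
        field_simp at e2
        simp only [hq]
        linear_combination (t * β + s) * e1 - t * e2 + (t * t * B w d) * h2
      exact (mul_eq_zero.mp this).resolve_left h0
    have hdb : B b d = 0 := by
      have : q s t * B b d = 0 := by
        field_simp at e2
        simp only [hq]
        linear_combination s * e2 - t * e1 + (t * t * B b d) * h2
      exact (mul_eq_zero.mp this).resolve_left h0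
    have hk'd : k' d = d := by
      have h3 := hk'z (y + d) ⟨k, hk, by rw [map_add, hky, hkd d hdw hdb]; abel⟩
      rw [map_add, hy] at h3
      exact add_left_cancel (h3.trans (by abel : y + d + L s t = y + L s t + d))
    calc k' x = k' (d + a • L s t + c • y) := by rw [show d + a • L s t + c • y = x by rw [hd]; abel]
      _ = d + a • L s t + c • (y + L s t) := by rw [map_add, map_add, map_smul, map_smul, hk'd, hk'v, hy]
      _ = x + c • L s t := by rw [hd, smul_add c y (L s t)]; abel
  -- the plane is the whole space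
  have hspan : ∀ x, x = L (B b x / β) (B w x / β) := by
    by_contra hcx
    push Not at hcx
    obtain ⟨h₁, hh₁, hout⟩ : ∃ h ∈ H, ∀ s t, h w ≠ L s t := by
      by_contra hc
      push Not at hc
      obtain ⟨x, hx⟩ := hcx
      have hxm : x ∈ Submodule.span E {w, b} := by
        have hle : (⊤ : Submodule E V) ≤ Submodule.span E {w, b} := by
          rw [← hB.span_orbit_eq_top hw0, Submodule.span_le]
          rintro _ ⟨h, hh, rfl⟩
          obtain ⟨s, t, hst⟩ := hc h hh
          exact Submodule.mem_span_pair.mpr ⟨s, t, hst.symm⟩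
        exact hle Submodule.mem_top
      obtain ⟨s, t, hst⟩ := Submodule.mem_span_pair.mp hxm
      apply hx
      rw [← hst, show s • w + t • b = L s t from rfl, hBbL, hBwL, mul_div_assoc, div_self hβ,
        mul_one, mul_div_assoc, div_self hβ, mul_one]
    set c := h₁ w with hcdef
    set s₀ := B b c
    set t₀ := B w c
    have hq0 : q s₀ t₀ ≠ 0 := by
      intro e
      have ht0 : B w c = 0 := (haniso _ _ e).2
      have := hpair h₁ hh₁ ht0
      exact hout 1 0 (by rw [show c = w from this]; simp [hL])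
    haveI := Fintype.ofFinite E
    haveI : CharP E 2 := CharTwo.of_one_ne_zero_of_two_eq_zero one_ne_zero h2
    obtain ⟨l, hl⟩ := FiniteField.isSquare_of_char_two (F := E) (ringChar.eq E 2) (q s₀ t₀)⁻¹
    set s := l * s₀ with hs
    set t := l * t₀ with ht
    have hqe : q s t = 1 := by
      have : q s t = (l * l) * q s₀ t₀ := by simp only [hq, hs, ht]; ring
      rw [this, ← hl, inv_mul_cancel₀ hq0]
    have hce : B c (L s t) = 0 := by
      rw [hsym, hBL, hs, ht]
      linear_combination (l * t₀ * s₀) * h2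
    obtain ⟨k, hk, hke⟩ : ∃ k ∈ H, k w = L s t := by
      by_cases hv : q (s + 1) t = 0
      · obtain ⟨hs1, ht1⟩ := haniso _ _ hv
        refine ⟨1, H.one_mem, ?_⟩
        have : s = 1 := by linear_combination hs1 - h2
        simp [hL, this, ht1]
      · obtain ⟨k, hk, hkx⟩ := htrans (s + 1) t hv
        refine ⟨k, hk, ?_⟩
        have hqv : q (s + 1) t = t * β := by
          simp only [hq] at hqe ⊢
          linear_combination hqe + (s + 1) * h2
        have hBv : B (L (s + 1) t) w = t * β := by rw [hBL, halt, hbw, mul_zero, zero_add]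
        rw [hkx, hBv, ← hqv, div_self hv, one_smul]
        simp only [hL, add_smul, one_smul]
        calc w + (s • w + w + t • b) = (w + w) + (s • w + t • b) := by abel
          _ = s • w + t • b := by rw [add_self_of_two h2, zero_add]
    have h4 : (h₁⁻¹ * k) w = w := by
      refine hpair _ (H.mul_mem (H.inv_mem hh₁) hk) ?_
      rw [← hinvB h₁ hh₁, LinearEquiv.mul_apply, show h₁ (h₁⁻¹ (k w)) = k w from h₁.apply_symm_apply _,
        hke, ← hcdef]
      exact hce
    rw [LinearEquiv.mul_apply, hke] at h4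
    exact hout s t ((congrArg h₁ h4).symm.trans (h₁.apply_symm_apply _))
  -- the invariant form
  set Q : V → E := fun x => q (B b x / β) (B w x / β) with hQ
  have hQy : ∀ k ∈ H, ∀ y x, k y = y + x → Q x = B y x := by
    intro k hk y x hky
    obtain ⟨k₀, hk₀, hky₀, -⟩ := hpre (B b x / β) (B w x / β)
    rw [← hspan x] at hky₀
    set y₀ := L (B w x / β / β) (B b x / β / β + B w x / β) with hy₀def
    have hQ0 : Q x = B y₀ x := by
      conv_rhs => rw [hspan x, hy₀def, hBL, hBwL, hBbL]
      simp only [hQ, hq]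
      field_simp
      ring
    obtain ⟨k', hk', hk'v, hk'z⟩ := hfix hk₀ hky₀
    have hd : k' (y - y₀) = y - y₀ := by
      rw [map_sub, hk'z y ⟨k, hk, hky⟩, hk'z y₀ ⟨k₀, hk₀, hky₀⟩]; abel
    have h5 : B (y - y₀) x = 0 := by
      have h6 := hinvB k' hk' (y - y₀) y₀
      rw [hd, hk'z y₀ ⟨k₀, hk₀, hky₀⟩, map_add] at h6
      simpa using h6
    rw [map_sub, LinearMap.sub_apply, sub_eq_zero] at h5
    rw [hQ0, h5]
  refine ⟨Q, B, ⟨?_, fun x y => ?_, fun c x => ?_, fun x hx => ?_, fun h hh x => ?_,
    fun x hx => hB.exists_stab hdim hx⟩⟩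
  · have hle : (⊤ : Submodule E V) ≤ Submodule.span E {w, b} := fun x _ => by
      rw [hspan x]; exact Submodule.mem_span_pair.mpr ⟨_, _, rfl⟩
    have h1 := Submodule.finrank_mono hle
    rw [finrank_top] at h1
    have h3 := (finrank_span_finset_le_card (R := E) ({w, b} : Finset V))
    rw [Set.finrank, Finset.coe_pair] at h3
    have h4 : ({w, b} : Finset V).card ≤ 2 := Finset.card_le_two
    omega
  · conv_rhs => arg 2; rw [hspan x, hBL]
    simp only [hQ, hq, map_add]
    field_simp
    linear_combination (B b x * B b y + B w x * B w y) * h2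
  · simp only [hQ, hq, map_smul, smul_eq_mul]
    ring
  · obtain ⟨h3, h4⟩ := haniso _ _ hx
    rw [hspan x, h3, h4]
    simp [hL]
  · obtain ⟨k, hk, hky, -⟩ := hpre (B b x / β) (B w x / β)
    rw [← hspan x] at hky
    rw [hQy k hk _ _ hky, hQy (h * k * h⁻¹) (H.mul_mem (H.mul_mem hh hk) (H.inv_mem hh))
      (h (L (B w x / β / β) (B b x / β / β + B w x / β))) (h x) (by
        show h (k (h⁻¹ (h _))) = _
        rw [show ∀ z, h⁻¹ (h z) = z from h.symm_apply_apply, hky, map_add]), hinvB h hh]

end CfsgLib.Perm.BinaryAffine
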